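import Cfsg.Agent.H439.CC.Defs

/-!
# S4884, block G-psl: commuting `q`-elements of `SL_n(F)` (helper246)
-/

set_option autoImplicit false

namespace Cfsg.Agent.H246.CC

open Module Cfsg.Agent.H439.CC

section general

variable {F : Type*} [Field F] {V : Type*} [AddCommGroup V] [Module F V]

/-- the projection on `[V, x]` along `C_V(x)` for `x ^ q = 1` -/
noncomputable def ea (q : ℕ) (x : Module.End F V) : Module.End F V := 1 - (q : F)⁻¹ • ∑ j ∈ Finset.range q, x ^ j

theorem ea_fix {q : ℕ} (hq : (q : F) ≠ 0) {x : Module.End F V} {v : V} (hv : x v = v) : ea q x v = 0 := by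
  have h1 : ∀ j : ℕ, (x ^ j) v = v := by
    intro j
    induction j with
    | zero => rfl
    | succ j ih => rw [pow_succ, Module.End.mul_apply, hv, ih]
  rw [ea, LinearMap.sub_apply, LinearMap.smul_apply, LinearMap.sum_apply, Finset.sum_congr rfl fun j _ => h1 j,
    Finset.sum_const, Finset.card_range, ← Nat.cast_smul_eq_nsmul F, smul_smul, inv_mul_cancel₀ hq, one_smul,
    Module.End.one_apply, sub_self]

theorem sum_shift {q : ℕ} {x : Module.End F V} (hx : x ^ q = 1) :
    x * ∑ j ∈ Finset.range q, x ^ j = ∑ j ∈ Finset.range q, x ^ j := by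
  have h1 : (x - 1) * ∑ j ∈ Finset.range q, x ^ j = 0 := by rw [mul_geom_sum, hx, sub_self]
  rw [sub_mul, one_mul, sub_eq_zero] at h1
  exact h1

theorem sub_ea_fix {q : ℕ} {x : Module.End F V} (hx : x ^ q = 1) (v : V) : x (v - ea q x v) = v - ea q x v := by
  have h1 : v - ea q x v = (q : F)⁻¹ • (∑ j ∈ Finset.range q, x ^ j) v := by
    rw [ea, LinearMap.sub_apply, LinearMap.smul_apply, Module.End.one_apply, sub_sub_cancel]
  rw [h1, map_smul, ← Module.End.mul_apply, sum_shift hx]

theorem ea_idem {q : ℕ} (hq : (q : F) ≠ 0) {x : Module.End F V} (hx : x ^ q = 1) (v : V) :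
    ea q x (ea q x v) = ea q x v := by
  have h1 := ea_fix hq (sub_ea_fix (q := q) hx v)
  rw [map_sub, sub_eq_zero] at h1
  exact h1.symm

theorem ea_of_no_fix {q : ℕ} {x : Module.End F V} (hx : x ^ q = 1) (h : ∀ v, x v = v → v = 0) (v : V) :
    ea q x v = v :=
  (sub_eq_zero.1 (h _ (sub_ea_fix (q := q) hx v))).symm

theorem ea_comm {q : ℕ} {x y : Module.End F V} (h : Commute x y) : Commute (ea q x) y := by
  refine (Commute.one_left y).sub_left (Commute.smul_left (Commute.sum_left _ _ _ fun j _ => h.pow_left j) _)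

theorem ea_mem {q : ℕ} {x : Module.End F V} {U : Submodule F V} (hU : ∀ u ∈ U, x u ∈ U) {u : V} (hu : u ∈ U) :
    ea q x u ∈ U := by
  have h1 : ∀ j : ℕ, ∀ u ∈ U, (x ^ j) u ∈ U := by
    intro j
    induction j with
    | zero => exact fun u hu => hu
    | succ j ih => intro u hu; rw [pow_succ, Module.End.mul_apply]; exact ih _ (hU u hu)
  rw [ea, LinearMap.sub_apply, LinearMap.smul_apply, LinearMap.sum_apply]
  exact U.sub_mem hu (U.smul_mem _ (U.sum_mem fun j _ => h1 j u hu))

end general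

section finite

variable {F : Type*} [Field F] [Fintype F] {V : Type*} [AddCommGroup V] [Module F V] [Module.Finite F V]

/-- `q` elements act freely on the nonzero vectors -/
theorem pow_eq_one {q : ℕ} [Fact q.Prime] {x : Module.End F V} (hx : x ^ q = 1) (h : ∀ v, x v = v → v = 0) :
    ((Fintype.card F : ℕ) : ZMod q) ^ finrank F V = 1 := by
  have hfin : Finite V := Module.finite_of_finite F
  have := Fintype.ofFinite V
  let u : (Module.End F V)ˣ := ⟨x, x ^ (q - 1), by
    rw [← pow_succ', Nat.sub_add_cancel (Fact.out : q.Prime).one_le, hx], by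
    rw [← pow_succ, Nat.sub_add_cancel (Fact.out : q.Prime).one_le, hx]⟩
  have hu : u ^ q = 1 := Units.ext (by simpa [u] using hx)
  let G : Subgroup (Module.End F V)ˣ := Subgroup.zpowers u
  have hG : IsPGroup q G := by
    rintro ⟨g, hg⟩
    obtain ⟨k, rfl⟩ := Subgroup.mem_zpowers_iff.1 hg
    refine ⟨1, Subtype.ext ?_⟩
    show (u ^ k) ^ (q ^ 1) = 1
    rw [pow_one, ← zpow_natCast, ← zpow_mul, mul_comm, zpow_mul, zpow_natCast, hu, one_zpow]
  have h1 := hG.card_modEq_card_fixedPoints V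
  have h2 : MulAction.fixedPoints G V = {0} := by
    ext v
    rw [Set.mem_singleton_iff, MulAction.mem_fixedPoints]
    constructor
    · intro hv
      exact h v (hv ⟨u, Subgroup.mem_zpowers u⟩)
    · rintro rfl g
      exact smul_zero g
  rw [h2, Nat.card_eq_fintype_card, Module.card_eq_pow_finrank (K := F)] at h1
  have h3 : Nat.card ({0} : Set V) = 1 := by simp
  rw [h3] at h1
  have h4 := (ZMod.natCast_eq_natCast_iff _ _ _).2 h1
  push_cast at h4
  exact h4

/-- the rank of `ea` is a multiple of the order of `|F|` modulo `q` -/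
theorem dvd_rank {q : ℕ} [Fact q.Prime] (hq : (q : F) ≠ 0) {x : Module.End F V} (hx : x ^ q = 1) :
    orderOf ((Fintype.card F : ℕ) : ZMod q) ∣ finrank F (LinearMap.range (ea q x)) := by
  have hc : ∀ v ∈ LinearMap.range (ea q x), x v ∈ LinearMap.range (ea q x) := by
    rintro _ ⟨v, rfl⟩
    refine ⟨x v, ?_⟩
    have := (ea_comm (q := q) (Commute.refl x)).eq
    exact congrArg (fun f : Module.End F V => f v) this
  let y : Module.End F (LinearMap.range (ea q x)) := x.restrict hc
  have hy : ∀ (j : ℕ) (v : LinearMap.range (ea q x)), (((y ^ j) v : LinearMap.range (ea q x)) : V) = (x ^ j) v := by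
    intro j
    induction j with
    | zero => exact fun v => rfl
    | succ j ih => intro v; rw [pow_succ, Module.End.mul_apply, ih, pow_succ, Module.End.mul_apply]; rfl
  refine orderOf_dvd_of_pow_eq_one (pow_eq_one (x := y) ?_ ?_)
  · ext v
    rw [hy, hx]
    rfl
  · rintro ⟨_, w, rfl⟩ hv
    have h1 : x (ea q x w) = ea q x w := congrArg Subtype.val hv
    have h2 := ea_fix hq h1
    rw [ea_idem hq hx] at h2
    exact Subtype.ext h2

omit [Fintype F] in
theorem card_ne_zero' [Fintype F] {q : ℕ} [Fact q.Prime] (hq : (q : F) ≠ 0) : ((Fintype.card F : ℕ) : ZMod q) ≠ 0 := by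
  intro h0
  rw [ZMod.natCast_eq_zero_iff] at h0
  obtain ⟨p, hcp, n, hp, hc⟩ := FiniteField.card' F
  rw [hc] at h0
  have h1 := (Nat.prime_dvd_prime_iff_eq (Fact.out : q.Prime) hp).1 ((Fact.out : q.Prime).dvd_of_dvd_pow h0)
  rw [h1] at hq
  exact hq (CharP.cast_eq_zero F p)

theorem ord_pos {q : ℕ} [Fact q.Prime] (hq : (q : F) ≠ 0) : 0 < orderOf ((Fintype.card F : ℕ) : ZMod q) := by
  rw [orderOf_pos_iff]
  exact isOfFinOrder_iff_pow_eq_one.2 ⟨q - 1, Nat.sub_pos_of_lt (Fact.out : q.Prime).one_lt,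
    ZMod.pow_card_sub_one_eq_one (card_ne_zero' hq)⟩

/-- an element of order `q` without fixed vectors on the space of dimension `e` -/
theorem exists_base {q : ℕ} [Fact q.Prime] (hq : (q : F) ≠ 0) :
    ∃ x : Module.End F (Fin (orderOf ((Fintype.card F : ℕ) : ZMod q)) → F), x ^ q = 1 ∧ ∀ v, x v = v → v = 0 := by
  classical
  have he0 := ord_pos hq
  have hone := pow_orderOf_eq_one ((Fintype.card F : ℕ) : ZMod q)
  set e := orderOf ((Fintype.card F : ℕ) : ZMod q) with he
  have h1 : q ∣ Nat.card (GL (Fin e) F) := by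
    rw [Matrix.card_GL_field]
    refine dvd_trans ?_ (Finset.dvd_prod_of_mem _ (Finset.mem_univ (⟨0, he0⟩ : Fin e)))
    show q ∣ Fintype.card F ^ e - Fintype.card F ^ 0
    rw [pow_zero]
    have h2 : ((Fintype.card F ^ e : ℕ) : ZMod q) = ((1 : ℕ) : ZMod q) := by push_cast; exact hone
    exact (Nat.modEq_iff_dvd' (Nat.one_le_pow _ _ Fintype.card_pos)).1 ((ZMod.natCast_eq_natCast_iff _ _ _).1 h2).symm
  obtain ⟨g, hg⟩ := exists_prime_orderOf_dvd_card' q h1
  let x : Module.End F (Fin e → F) := Matrix.toLin' (g : Matrix (Fin e) (Fin e) F)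
  have hx : x ^ q = 1 := by
    have h2 : (g : Matrix (Fin e) (Fin e) F) ^ q = 1 := by
      have h3 : g ^ q = 1 := by rw [← hg]; exact pow_orderOf_eq_one g
      have h4 := congrArg (fun u : GL (Fin e) F => (u : Matrix (Fin e) (Fin e) F)) h3
      simpa using h4
    show (Matrix.toLin' (g : Matrix (Fin e) (Fin e) F)) ^ q = 1
    rw [← Matrix.toLin'_pow, h2, Matrix.toLin'_one]
    rfl
  have hx1 : x ≠ 1 := by
    intro h
    have h2 : (g : Matrix (Fin e) (Fin e) F) = 1 := by
      apply Matrix.toLin'.injective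
      rw [Matrix.toLin'_one]
      exact h
    have h3 : g = 1 := Units.ext h2
    rw [h3, orderOf_one] at hg
    exact (Fact.out : q.Prime).one_lt.ne hg
  have hr : finrank F (LinearMap.range (ea q x)) = e := by
    have h2 := dvd_rank hq hx
    have h3 : finrank F (LinearMap.range (ea q x)) ≤ e := by
      refine (Submodule.finrank_le _).trans ?_
      rw [Module.finrank_fintype_fun_eq_card, Fintype.card_fin]
    have h4 : finrank F (LinearMap.range (ea q x)) ≠ 0 := by
      intro h0
      apply hx1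
      have h5 := Submodule.finrank_eq_zero.1 h0
      refine LinearMap.ext fun v => ?_
      have h6 : ea q x v = 0 := by
        have : ea q x v ∈ LinearMap.range (ea q x) := ⟨v, rfl⟩
        rw [h5] at this
        exact (Submodule.mem_bot F).1 this
      have h7 := sub_ea_fix (q := q) hx v
      rw [h6, sub_zero] at h7
      exact h7
    exact le_antisymm h3 (Nat.le_of_dvd (Nat.pos_of_ne_zero h4) h2)
  have htop : LinearMap.range (ea q x) = ⊤ := by
    apply Submodule.eq_top_of_finrank_eq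
    rw [hr, Module.finrank_fintype_fun_eq_card, Fintype.card_fin]
  refine ⟨x, hx, fun v hv => ?_⟩
  obtain ⟨w, hw⟩ := LinearMap.range_eq_top.1 htop v
  have h2 := ea_fix hq hv
  rw [← hw, ea_idem hq hx, hw] at h2
  exact h2

omit [Fintype F] in
/-- the block element: `f` on `A`, `g` on `B` -/
theorem ea_prod {A B : Type*} [AddCommGroup A] [Module F A] [AddCommGroup B] [Module F B] (q : ℕ)
    (f : Module.End F A) (g : Module.End F B) (v : A × B) :
    ea q (LinearMap.prodMap f g : Module.End F (A × B)) v = (ea q f v.1, ea q g v.2) := by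
  have hX : ∀ j : ℕ, ∀ v : A × B, ((LinearMap.prodMap f g : Module.End F (A × B)) ^ j) v = ((f ^ j) v.1, (g ^ j) v.2) := by
    intro j
    induction j with
    | zero => exact fun v => rfl
    | succ j ih => intro v; rw [pow_succ, Module.End.mul_apply, pow_succ, pow_succ]; exact ih _
  simp only [ea, LinearMap.sub_apply, LinearMap.smul_apply, LinearMap.sum_apply, hX, Module.End.one_apply]
  ext
  · simp [Prod.fst_sum]
  · simp [Prod.snd_sum]

/-- dimension of a stable subspace without fixed vectors -/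
theorem dvd_of_no_fix {q : ℕ} [Fact q.Prime] {x : Module.End F V} (hx : x ^ q = 1) {W : Submodule F V}
    (hc : ∀ v ∈ W, x v ∈ W) (h0 : ∀ v ∈ W, x v = v → v = 0) :
    orderOf ((Fintype.card F : ℕ) : ZMod q) ∣ finrank F W := by
  let y : Module.End F W := x.restrict hc
  have hy : ∀ (j : ℕ) (v : W), (((y ^ j) v : W) : V) = (x ^ j) v := by
    intro j
    induction j with
    | zero => exact fun v => rfl
    | succ j ih => intro v; rw [pow_succ, Module.End.mul_apply, ih, pow_succ, Module.End.mul_apply]; rfl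
  refine orderOf_dvd_of_pow_eq_one (pow_eq_one (x := y) ?_ ?_)
  · ext v
    rw [hy, hx]
    rfl
  · intro v hv
    exact Subtype.ext (h0 v v.2 (congrArg Subtype.val hv))

/-- the image of a stable subspace under `ea` -/
theorem dvd_map {q : ℕ} [Fact q.Prime] (hq : (q : F) ≠ 0) {x : Module.End F V} (hx : x ^ q = 1) {U : Submodule F V}
    (hU : ∀ u ∈ U, x u ∈ U) : orderOf ((Fintype.card F : ℕ) : ZMod q) ∣ finrank F (U.map (ea q x)) := by
  refine dvd_of_no_fix hx ?_ ?_
  · rintro _ ⟨u, hu, rfl⟩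
    refine ⟨x u, hU u hu, ?_⟩
    have := (ea_comm (q := q) (Commute.refl x)).eq
    exact congrArg (fun f : Module.End F V => f u) this
  · rintro _ ⟨u, hu, rfl⟩ h1
    have h2 := ea_fix hq h1
    rwa [ea_idem hq hx] at h2

omit [Fintype F] [Module.Finite F V] in
theorem ea_conj {V' : Type*} [AddCommGroup V'] [Module F V'] (q : ℕ) (E : V' ≃ₗ[F] V) (f : Module.End F V') :
    ea q (E.conjAlgEquiv F f) = E.conjAlgEquiv F (ea q f) := by
  simp only [ea, map_sub, map_one, map_smul, map_sum, map_pow]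

end finite

section steps

variable {F : Type*} [Field F] {V : Type*} [AddCommGroup V] [Module F V] [Module.Finite F V]

theorem finrank_split (e : Module.End F V) (U : Submodule F V) :
    finrank F (U.map e) + finrank F (U ⊓ LinearMap.ker e : Submodule F V) = finrank F U := by
  have h1 := LinearMap.finrank_range_add_finrank_ker (e.domRestrict U)
  rw [LinearMap.range_domRestrict, LinearMap.ker_domRestrict] at h1
  rw [← h1]
  congr 1
  have h2 : (LinearMap.ker e).submoduleOf U = Submodule.comap U.subtype (U ⊓ LinearMap.ker e) := by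
    ext v
    simp [Submodule.submoduleOf]
  have h3 : Submodule.comap U.subtype (LinearMap.ker e) = Submodule.comap U.subtype (U ⊓ LinearMap.ker e) := by
    ext v
    simp
  rw [h3]
  exact (LinearEquiv.finrank_eq (Submodule.comapSubtypeEquivOfLe (inf_le_left : U ⊓ LinearMap.ker e ≤ U))).symm

/-- the step of the flag -/
theorem step_grow (e : Module.End F V) {A B : Submodule F V} (hAB : A ≤ B) {k : ℕ}
    (hk : finrank F B = finrank F A + k) (h : ∀ v ∈ B, v - e v ∈ A) :
    finrank F (B.map e) = finrank F (A.map e) + k := by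
  have h1 := finrank_split e A
  have h2 := finrank_split e B
  have h3 : B ⊓ LinearMap.ker e = A ⊓ LinearMap.ker e := by
    apply le_antisymm
    · intro v hv
      have h4 := h v hv.1
      have h5 : e v = 0 := hv.2
      rw [h5, sub_zero] at h4
      exact ⟨h4, hv.2⟩
    · exact inf_le_inf_right _ hAB
  rw [h3] at h2
  omega

omit [Module.Finite F V] in
theorem step_same (e : Module.End F V) (he : ∀ v, e (e v) = e v) {A B : Submodule F V} (hAB : A ≤ B)
    (h : ∀ v ∈ B, e v ∈ A) : B.map e = A.map e := by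
  apply le_antisymm
  · rintro _ ⟨v, hv, rfl⟩
    exact ⟨e v, h v hv, he v⟩
  · exact Submodule.map_mono hAB

/-- the growth of the images of two orthogonal idempotents along a flag with primary quotients -/
theorem steps {Adm : Submodule F V → Prop} {X : Set (V ≃ₗ[F] V)} {e₁ e₂ : Module.End F V} (h11 : ∀ v, e₁ (e₁ v) = e₁ v)
    (h22 : ∀ v, e₂ (e₂ v) = e₂ v) (h12 : ∀ v, e₁ (e₂ v) = 0)
    (hS : ∀ U : Submodule F V, (∀ x ∈ X, U.map (x : V →ₗ[F] V) = U) → ∀ u ∈ U, e₁ u ∈ U ∧ e₂ u ∈ U)
    (hP : ∀ A B : Submodule F V, (∀ x ∈ X, Prim x A B) →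
      ((∀ v ∈ B, e₁ v ∈ A) ∨ ∀ v ∈ B, v - e₁ v ∈ A) ∧ ((∀ v ∈ B, e₂ v ∈ A) ∨ ∀ v ∈ B, v - e₂ v ∈ A))
    {d : ℕ} (hd : ∀ U : Submodule F V, (∀ x ∈ X, U.map (x : V →ₗ[F] V) = U) → d ∣ finrank F (U.map e₁)) :
    ∀ L : List ℕ, L.Nodup → ∀ A : Submodule F V, (∀ x ∈ X, A.map (x : V →ₗ[F] V) = A) →
      PF Adm X (L.map fun i => 2 ^ i) A → finrank F A + (L.map fun i => 2 ^ i).sum = finrank F V →
      ∃ s₁ s₂ : Finset ℕ, (∀ i ∈ s₁, i ∈ L) ∧ (∀ i ∈ s₂, i ∈ L) ∧ Disjoint s₁ s₂ ∧ (∀ i ∈ s₁, d ∣ 2 ^ i) ∧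
        finrank F (A.map e₁) + ∑ i ∈ s₁, 2 ^ i = finrank F (LinearMap.range e₁) ∧
        finrank F (A.map e₂) + ∑ i ∈ s₂, 2 ^ i = finrank F (LinearMap.range e₂) := by
  intro L
  induction L with
  | nil =>
    intro _ A _ _ hA
    have hA' : A = ⊤ := by
      apply Submodule.eq_top_of_finrank_eq
      simpa using hA
    subst hA'
    refine ⟨∅, ∅, by simp, by simp, by simp, by simp, ?_, ?_⟩
    · rw [Finset.sum_empty, add_zero, Submodule.map_top]
    · rw [Finset.sum_empty, add_zero, Submodule.map_top]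
  | cons i L ih =>
    intro hL A hA hPF hdim
    rw [List.nodup_cons] at hL
    obtain ⟨B, hAB, -, hB, hk, hPr, hPF'⟩ := hPF
    have hk : finrank F B = finrank F A + 2 ^ i := hk
    rw [List.map_cons, List.sum_cons] at hdim
    have hdim : finrank F A + (2 ^ i + (L.map fun i => 2 ^ i).sum) = finrank F V := hdim
    obtain ⟨s₁, s₂, c1, c2, c3, c4, c5, c6⟩ := ih hL.2 B hB hPF' (by rw [hk]; omega)
    have hi1 : i ∉ s₁ := fun h => hL.1 (c1 i h)
    have hi2 : i ∉ s₂ := fun h => hL.1 (c2 i h)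
    have up : ∀ s : Finset ℕ, (∀ j ∈ s, j ∈ L) → ∀ j ∈ s, j ∈ i :: L := fun s h j hj => List.mem_cons_of_mem _ (h j hj)
    have ins : ∀ s : Finset ℕ, (∀ j ∈ s, j ∈ L) → ∀ j ∈ insert i s, j ∈ i :: L := by
      intro s h j hj
      rcases Finset.mem_insert.1 hj with rfl | hj
      · exact List.mem_cons_self
      · exact List.mem_cons_of_mem _ (h j hj)
    obtain ⟨hp1, hp2⟩ := hP A B hPr
    rcases hp1 with hp1 | hp1
    · rw [step_same e₁ h11 hAB.le hp1] at c5
      rcases hp2 with hp2 | hp2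
      · rw [step_same e₂ h22 hAB.le hp2] at c6
        exact ⟨s₁, s₂, up _ c1, up _ c2, c3, c4, c5, c6⟩
      · rw [step_grow e₂ hAB.le hk hp2] at c6
        refine ⟨s₁, insert i s₂, up _ c1, ins _ c2, Finset.disjoint_insert_right.2 ⟨hi1, c3⟩, c4, c5, ?_⟩
        rw [Finset.sum_insert hi2]
        omega
    · have h7 : d ∣ 2 ^ i := by
        have h8 := hd B hB
        rw [step_grow e₁ hAB.le hk hp1] at h8
        exact (Nat.dvd_add_right (hd A hA)).1 h8
      rw [step_grow e₁ hAB.le hk hp1] at c5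
      rcases hp2 with hp2 | hp2
      · rw [step_same e₂ h22 hAB.le hp2] at c6
        refine ⟨insert i s₁, s₂, ins _ c1, up _ c2, Finset.disjoint_insert_left.2 ⟨hi2, c3⟩, ?_, ?_, c6⟩
        · intro j hj
          rcases Finset.mem_insert.1 hj with rfl | hj
          · exact h7
          · exact c4 j hj
        · rw [Finset.sum_insert hi1]
          omega
      · exfalso
        obtain ⟨b, hb, hbA⟩ := Set.exists_of_ssubset hAB
        apply hbA
        have h8 := hp1 b hb
        have h9 := hp1 (e₂ b) ((hS B hB b hb).2)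
        rw [h12, sub_zero] at h9
        have h10 := A.add_mem (hp2 b hb) h9
        rwa [sub_add_cancel] at h10

/-- two nonzero orthogonal idempotents of the same rank: no digit flag -/
theorem no_pf {Adm : Submodule F V → Prop} {X : Set (V ≃ₗ[F] V)} {e₁ e₂ : Module.End F V} (h11 : ∀ v, e₁ (e₁ v) = e₁ v)
    (h22 : ∀ v, e₂ (e₂ v) = e₂ v) (h12 : ∀ v, e₁ (e₂ v) = 0)
    (hS : ∀ U : Submodule F V, (∀ x ∈ X, U.map (x : V →ₗ[F] V) = U) → ∀ u ∈ U, e₁ u ∈ U ∧ e₂ u ∈ U)
    (hP : ∀ A B : Submodule F V, (∀ x ∈ X, Prim x A B) →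
      ((∀ v ∈ B, e₁ v ∈ A) ∨ ∀ v ∈ B, v - e₁ v ∈ A) ∧ ((∀ v ∈ B, e₂ v ∈ A) ∨ ∀ v ∈ B, v - e₂ v ∈ A))
    (h0 : finrank F (LinearMap.range e₁) ≠ 0)
    (heq : finrank F (LinearMap.range e₁) = finrank F (LinearMap.range e₂)) :
    ¬ PF Adm X (dig (finrank F V)) ⊥ := by
  intro h
  obtain ⟨s₁, s₂, -, -, c3, -, c5, c6⟩ := steps h11 h22 h12 hS hP (d := 1) (fun _ _ => one_dvd _)
    (finrank F V).bitIndices Nat.bitIndices_nodup ⊥ (fun x _ => Submodule.map_bot _) h (by simp)
  rw [Submodule.map_bot, finrank_bot, zero_add] at c5 c6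
  have h1 : s₁ = s₂ := Finset.geomSum_injective le_rfl (by show ∑ i ∈ s₁, 2 ^ i = ∑ i ∈ s₂, 2 ^ i; omega)
  subst h1
  rw [disjoint_self] at c3
  have h2 : s₁ = ∅ := c3
  rw [h2, Finset.sum_empty] at c5
  exact h0 c5.symm

/-- one idempotent of rank `d`, all ranks divisible by `d`: only if `d` is a digit -/
theorem pf_digit {Adm : Submodule F V → Prop} {X : Set (V ≃ₗ[F] V)} {e₁ : Module.End F V} (h11 : ∀ v, e₁ (e₁ v) = e₁ v)
    (hS : ∀ U : Submodule F V, (∀ x ∈ X, U.map (x : V →ₗ[F] V) = U) → ∀ u ∈ U, e₁ u ∈ U)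
    (hP : ∀ A B : Submodule F V, (∀ x ∈ X, Prim x A B) → (∀ v ∈ B, e₁ v ∈ A) ∨ ∀ v ∈ B, v - e₁ v ∈ A)
    (h0 : finrank F (LinearMap.range e₁) ≠ 0)
    (hd : ∀ U : Submodule F V, (∀ x ∈ X, U.map (x : V →ₗ[F] V) = U) →
      finrank F (LinearMap.range e₁) ∣ finrank F (U.map e₁))
    (h : PF Adm X (dig (finrank F V)) ⊥) : ∃ c, finrank F (LinearMap.range e₁) = 2 ^ c := by
  obtain ⟨s₁, s₂, -, -, -, c4, c5, -⟩ := steps (e₂ := 0) h11 (fun _ => rfl) (fun _ => map_zero e₁)
    (fun U hU u hu => ⟨hS U hU u hu, U.zero_mem⟩) (fun A B hAB => ⟨hP A B hAB, Or.inl fun _ _ => A.zero_mem⟩) hd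
    (finrank F V).bitIndices Nat.bitIndices_nodup ⊥ (fun x _ => Submodule.map_bot _) h (by simp)
  rw [Submodule.map_bot, finrank_bot, zero_add] at c5
  have h1 : s₁.Nonempty := by
    rw [Finset.nonempty_iff_ne_empty]
    rintro rfl
    rw [Finset.sum_empty] at c5
    exact h0 c5.symm
  obtain ⟨i, hi⟩ := h1
  refine ⟨i, le_antisymm (Nat.le_of_dvd (by positivity) (c4 i hi)) ?_⟩
  rw [← c5]
  exact Finset.single_le_sum (f := fun i => 2 ^ i) (fun _ _ => Nat.zero_le _) hi

end steps

section prim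

variable {F : Type*} [Field F] {V : Type*} [AddCommGroup V] [Module F V]

theorem prim_idem {y : V ≃ₗ[F] V} (p : Polynomial F)
    (hp : ∀ v, Polynomial.aeval (y : V →ₗ[F] V) p (Polynomial.aeval (y : V →ₗ[F] V) p v) =
      Polynomial.aeval (y : V →ₗ[F] V) p v) {A B : Submodule F V} (h : Prim y A B) :
    (∀ v ∈ B, Polynomial.aeval (y : V →ₗ[F] V) p v ∈ A) ∨ ∀ v ∈ B, v - Polynomial.aeval (y : V →ₗ[F] V) p v ∈ A := by
  have h1 : ∀ v, Polynomial.aeval (y : V →ₗ[F] V) (1 - p) v = v - Polynomial.aeval (y : V →ₗ[F] V) p v := by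
    intro v
    rw [map_sub, map_one, LinearMap.sub_apply, Module.End.one_apply]
  rcases h p (1 - p) ⟨1, 1, by ring⟩ (fun v _ => by
    rw [map_mul, Module.End.mul_apply, h1, map_sub, hp, sub_self]
    exact A.zero_mem) with h | h
  · exact Or.inl h
  · exact Or.inr fun v hv => by rw [← h1]; exact h v hv

/-- the polynomial of the projection on the `z`-eigenspace of `y`, `y ^ q = 1` -/
noncomputable def pz (q : ℕ) (z : F) : Polynomial F :=
  Polynomial.C (q : F)⁻¹ * ∑ j ∈ Finset.range q, (Polynomial.C z⁻¹ * Polynomial.X) ^ j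

theorem aeval_pz (q : ℕ) (z : F) (y : Module.End F V) :
    Polynomial.aeval y (pz q z) = 1 - ea q (z⁻¹ • y) := by
  rw [pz, ea, sub_sub_cancel, map_mul, map_sum, Polynomial.aeval_C]
  simp only [map_pow, map_mul, Polynomial.aeval_C, Polynomial.aeval_X, ← Algebra.smul_def]

end prim

section group

variable {F : Type*} [Field F] {V : Type*} [AddCommGroup V] [Module F V] {Gh : Type*} [Group Gh]

/-- the group generated by two commuting elements of order `q` -/
theorem qElt_of_pair {Adm : Submodule F V → Prop} {act : Gh →* (V ≃ₗ[F] V)} {q N : ℕ} {x₁ x₂ : Gh}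
    (h1 : x₁ ^ q = 1) (h2 : x₂ ^ q = 1) (hc : x₁ * x₂ = x₂ * x₁)
    (h : ∀ X : Set (V ≃ₗ[F] V), act x₁ ∈ X → act x₂ ∈ X → ¬ PF Adm X (dig N) ⊥) : QElt Adm act q N := by
  have hcomm : ∀ x ∈ Subgroup.closure {x₁, x₂}, ∀ y ∈ Subgroup.closure {x₁, x₂}, x * y = y * x := by
    intro x hx y hy
    have := Subgroup.isMulCommutative_closure (k := ({x₁, x₂} : Set Gh)) (by
      rintro a (rfl | rfl) b (rfl | rfl)
      · rfl
      · exact hc
      · exact hc.symm
      · rfl)
    exact congrArg Subtype.val (mul_comm' (⟨x, hx⟩ : Subgroup.closure ({x₁, x₂} : Set Gh)) ⟨y, hy⟩)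
  refine ⟨Subgroup.closure {x₁, x₂}, ?_, hcomm, h _ ⟨x₁, Subgroup.subset_closure (Or.inl rfl), rfl⟩
    ⟨x₂, Subgroup.subset_closure (Or.inr rfl), rfl⟩⟩
  rintro ⟨g, hg⟩
  refine ⟨1, Subtype.ext ?_⟩
  show g ^ q ^ 1 = 1
  rw [pow_one]
  induction hg using Subgroup.closure_induction with
  | mem x hx =>
    rcases hx with rfl | rfl
    · exact h1
    · exact h2
  | one => exact one_pow q
  | mul x y hx hy hx1 hy1 => rw [Commute.mul_pow (hcomm x hx y hy), hx1, hy1, one_mul]
  | inv x hx hx1 => rw [inv_pow, hx1, inv_one]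

end group

section blocks

variable {F : Type*} [Field F] [Fintype F] {V : Type*} [AddCommGroup V] [Module F V] [Module.Finite F V]

omit [Fintype F] in
theorem prodMap_pow {A B : Type*} [AddCommGroup A] [Module F A] [AddCommGroup B] [Module F B] (f : Module.End F A)
    (g : Module.End F B) (j : ℕ) : (LinearMap.prodMap f g : Module.End F (A × B)) ^ j = LinearMap.prodMap (f ^ j) (g ^ j) := by
  induction j with
  | zero => rfl
  | succ j ih => rw [pow_succ, ih, pow_succ, pow_succ]; rfl

omit [Fintype F] [Module.Finite F V] in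
theorem finrank_range_conj {V' : Type*} [AddCommGroup V'] [Module F V'] (E : V' ≃ₗ[F] V) (f : Module.End F V') :
    finrank F (LinearMap.range (E.conjAlgEquiv F f)) = finrank F (LinearMap.range f) := by
  have h1 : LinearMap.range (E.conjAlgEquiv F f) = (LinearMap.range f).map (E : V' →ₗ[F] V) := by
    ext v
    constructor
    · rintro ⟨w, rfl⟩
      exact ⟨_, ⟨E.symm w, rfl⟩, rfl⟩
    · rintro ⟨_, ⟨w, rfl⟩, rfl⟩
      exact ⟨E w, by rw [LinearEquiv.conjAlgEquiv_apply]; simp⟩
  rw [h1]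
  exact LinearEquiv.finrank_map_eq E _

/-- two blocks -/
theorem exists_two {q : ℕ} [Fact q.Prime] (hq : (q : F) ≠ 0)
    (hn : 2 * orderOf ((Fintype.card F : ℕ) : ZMod q) ≤ finrank F V) :
    ∃ f₁ f₂ : Module.End F V, f₁ ^ q = 1 ∧ f₂ ^ q = 1 ∧ f₁ * f₂ = f₂ * f₁ ∧ (∀ v, ea q f₁ (ea q f₂ v) = 0) ∧
      finrank F (LinearMap.range (ea q f₁)) = orderOf ((Fintype.card F : ℕ) : ZMod q) ∧
      finrank F (LinearMap.range (ea q f₂)) = orderOf ((Fintype.card F : ℕ) : ZMod q) := by
  have hb := exists_base (F := F) hq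
  generalize orderOf ((Fintype.card F : ℕ) : ZMod q) = e at hb hn ⊢
  obtain ⟨x, hx, hx0⟩ := hb
  let A := Fin e → F
  let B := Fin (finrank F V - 2 * e) → F
  have hdim : finrank F (A × (A × B)) = finrank F V := by
    rw [finrank_prod, finrank_prod, Module.finrank_fintype_fun_eq_card, Module.finrank_fintype_fun_eq_card,
      Fintype.card_fin, Fintype.card_fin]
    omega
  let E : (A × (A × B)) ≃ₗ[F] V := LinearEquiv.ofFinrankEq _ _ hdim
  let g₁ : Module.End F (A × (A × B)) := LinearMap.prodMap x 1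
  let g₂ : Module.End F (A × (A × B)) := LinearMap.prodMap 1 (LinearMap.prodMap x 1)
  have e1 : ∀ v : A × (A × B), ea q g₁ v = (v.1, 0) := fun v => by
    rw [ea_prod, ea_of_no_fix hx hx0, ea_fix hq rfl]
  have e2 : ∀ v : A × (A × B), ea q g₂ v = (0, (v.2.1, 0)) := fun v => by
    rw [ea_prod, ea_prod, ea_of_no_fix hx hx0, ea_fix hq rfl, ea_fix hq rfl]
  refine ⟨E.conjAlgEquiv F g₁, E.conjAlgEquiv F g₂, ?_, ?_, ?_, ?_, ?_, ?_⟩
  · rw [← map_pow, prodMap_pow, hx, one_pow, LinearMap.prodMap_one, map_one]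
  · rw [← map_pow, prodMap_pow, prodMap_pow, hx, one_pow, one_pow, LinearMap.prodMap_one, LinearMap.prodMap_one, map_one]
  · rw [← map_mul, ← map_mul]
    rfl
  · intro v
    rw [ea_conj, ea_conj, ← Module.End.mul_apply, ← map_mul]
    have h1 : ea q g₁ * ea q g₂ = 0 := by
      refine LinearMap.ext fun w => ?_
      rw [Module.End.mul_apply, e2, e1]
      rfl
    rw [h1, map_zero]
    rfl
  · rw [ea_conj, finrank_range_conj]
    have h1 : LinearMap.range (ea q g₁) = LinearMap.range (LinearMap.inl F A (A × B)) := by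
      ext v
      constructor
      · rintro ⟨w, rfl⟩
        exact ⟨w.1, (e1 w).symm⟩
      · rintro ⟨w, rfl⟩
        exact ⟨(w, 0), e1 _⟩
    rw [h1, LinearMap.finrank_range_of_inj LinearMap.inl_injective, Module.finrank_fintype_fun_eq_card, Fintype.card_fin]
  · rw [ea_conj, finrank_range_conj]
    have h1 : LinearMap.range (ea q g₂) = LinearMap.range (LinearMap.inr F A (A × B) ∘ₗ LinearMap.inl F A B) := by
      ext v
      constructor
      · rintro ⟨w, rfl⟩
        exact ⟨w.2.1, (e2 w).symm⟩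
      · rintro ⟨w, rfl⟩
        exact ⟨(0, (w, 0)), e2 _⟩
    rw [h1, LinearMap.finrank_range_of_inj (by
      rw [LinearMap.coe_comp]
      exact LinearMap.inr_injective.comp LinearMap.inl_injective), Module.finrank_fintype_fun_eq_card, Fintype.card_fin]

/-- one block -/
theorem exists_one {q : ℕ} [Fact q.Prime] (hq : (q : F) ≠ 0)
    (hn : orderOf ((Fintype.card F : ℕ) : ZMod q) ≤ finrank F V) :
    ∃ f : Module.End F V, f ^ q = 1 ∧
      finrank F (LinearMap.range (ea q f)) = orderOf ((Fintype.card F : ℕ) : ZMod q) := by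
  have hb := exists_base (F := F) hq
  generalize orderOf ((Fintype.card F : ℕ) : ZMod q) = e at hb hn ⊢
  obtain ⟨x, hx, hx0⟩ := hb
  let A := Fin e → F
  let B := Fin (finrank F V - e) → F
  have hdim : finrank F (A × B) = finrank F V := by
    rw [finrank_prod, Module.finrank_fintype_fun_eq_card, Module.finrank_fintype_fun_eq_card,
      Fintype.card_fin, Fintype.card_fin]
    omega
  let E : (A × B) ≃ₗ[F] V := LinearEquiv.ofFinrankEq _ _ hdim
  let g₁ : Module.End F (A × B) := LinearMap.prodMap x 1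
  have e1 : ∀ v : A × B, ea q g₁ v = (v.1, 0) := fun v => by
    rw [ea_prod, ea_of_no_fix hx hx0, ea_fix hq rfl]
  refine ⟨E.conjAlgEquiv F g₁, ?_, ?_⟩
  · rw [← map_pow, prodMap_pow, hx, one_pow, LinearMap.prodMap_one, map_one]
  · rw [ea_conj, finrank_range_conj]
    have h1 : LinearMap.range (ea q g₁) = LinearMap.range (LinearMap.inl F A B) := by
      ext v
      constructor
      · rintro ⟨w, rfl⟩
        exact ⟨w.1, (e1 w).symm⟩
      · rintro ⟨w, rfl⟩
        exact ⟨(w, 0), e1 _⟩
    rw [h1, LinearMap.finrank_range_of_inj LinearMap.inl_injective, Module.finrank_fintype_fun_eq_card, Fintype.card_fin]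

omit [Module.Finite F V] in
/-- the determinant of an element of order `q` -/
theorem det_one {q : ℕ} [Fact q.Prime] {f : Module.End F V} (hf : f ^ q = 1)
    (h1 : orderOf ((Fintype.card F : ℕ) : ZMod q) ≠ 1) : LinearMap.det f = 1 := by
  classical
  have h2 : (LinearMap.det f) ^ q = 1 := by rw [← map_pow, hf, map_one]
  have h0 : LinearMap.det f ≠ 0 := by
    intro h
    rw [h, zero_pow (Fact.out : q.Prime).ne_zero] at h2
    exact zero_ne_one h2
  have h3 : (LinearMap.det f) ^ (Fintype.card F - 1) = 1 := FiniteField.pow_card_sub_one_eq_one _ h0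
  rcases (Nat.dvd_prime (Fact.out : q.Prime)).1 (orderOf_dvd_of_pow_eq_one h2) with h4 | h4
  · exact orderOf_eq_one_iff.1 h4
  · exfalso
    apply h1
    rw [orderOf_eq_one_iff]
    have h5 : q ∣ Fintype.card F - 1 := by rw [← h4]; exact orderOf_dvd_of_pow_eq_one h3
    have h6 := (ZMod.natCast_eq_zero_iff _ _).2 h5
    rw [Nat.cast_sub Fintype.card_pos, sub_eq_zero, Nat.cast_one] at h6
    exact h6

end blocks

section psl

variable {F : Type*} [Field F] [Fintype F] {n : ℕ}

/-- the element of `SL_n` of an endomorphism of determinant `1` -/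
noncomputable def mk (f : Module.End F (Fin n → F)) (hf : LinearMap.det f = 1) :
    Matrix.SpecialLinearGroup (Fin n) F :=
  ⟨LinearMap.toMatrix' f, by rw [LinearMap.det_toMatrix']; exact hf⟩

omit [Fintype F] in
theorem toLin'_mk (f : Module.End F (Fin n → F)) (hf : LinearMap.det f = 1) :
    Matrix.toLin' (mk f hf : Matrix (Fin n) (Fin n) F) = f := Matrix.toLin'_toMatrix' f

omit [Fintype F] in
theorem sl_ext {x y : Matrix.SpecialLinearGroup (Fin n) F}
    (h : Matrix.toLin' (x : Matrix (Fin n) (Fin n) F) = Matrix.toLin' (y : Matrix (Fin n) (Fin n) F)) : x = y :=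
  Subtype.ext (Matrix.toLin'.injective h)

omit [Fintype F] in
theorem toLin'_coe_mul (x y : Matrix.SpecialLinearGroup (Fin n) F) :
    Matrix.toLin' ((x * y : Matrix.SpecialLinearGroup (Fin n) F) : Matrix (Fin n) (Fin n) F) =
      Matrix.toLin' (x : Matrix (Fin n) (Fin n) F) * Matrix.toLin' (y : Matrix (Fin n) (Fin n) F) := by
  rw [Matrix.SpecialLinearGroup.coe_mul, Matrix.toLin'_mul]
  rfl

omit [Fintype F] in
theorem toLin'_coe_pow (x : Matrix.SpecialLinearGroup (Fin n) F) (j : ℕ) :
    Matrix.toLin' ((x ^ j : Matrix.SpecialLinearGroup (Fin n) F) : Matrix (Fin n) (Fin n) F) =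
      (Matrix.toLin' (x : Matrix (Fin n) (Fin n) F)) ^ j := by
  induction j with
  | zero => rw [pow_zero, pow_zero, Matrix.SpecialLinearGroup.coe_one, Matrix.toLin'_one]; rfl
  | succ j ih => rw [pow_succ, pow_succ, toLin'_coe_mul, ih]

/-- **block G-psl**: `q`-elements of `SL_n(F)` without primary digit flags -/
theorem qElt_sl {q : ℕ} [Fact q.Prime] (hq2 : q ≠ 2) (hq : (q : F) ≠ 0) (hn : 2 ≤ n)
    (he : orderOf ((Fintype.card F : ℕ) : ZMod q) ≤ n)
    (hbad : ¬ ∃ c, 1 ≤ c ∧ orderOf ((Fintype.card F : ℕ) : ZMod q) = 2 ^ c ∧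
      n < 2 * orderOf ((Fintype.card F : ℕ) : ZMod q))
    (act : Matrix.SpecialLinearGroup (Fin n) F →* ((Fin n → F) ≃ₗ[F] (Fin n → F)))
    (hact : ∀ g, ((act g : (Fin n → F) ≃ₗ[F] (Fin n → F)) : (Fin n → F) →ₗ[F] (Fin n → F)) =
      Matrix.toLin' (g : Matrix (Fin n) (Fin n) F)) (Adm : Submodule F (Fin n → F) → Prop) :
    QElt Adm act q n := by
  classical
  have hfr : finrank F (Fin n → F) = n := by rw [Module.finrank_fintype_fun_eq_card, Fintype.card_fin]
  have hst : ∀ (X : Set ((Fin n → F) ≃ₗ[F] (Fin n → F))) (g : Matrix.SpecialLinearGroup (Fin n) F), act g ∈ X →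
      ∀ U : Submodule F (Fin n → F), (∀ x ∈ X, U.map (x : (Fin n → F) →ₗ[F] (Fin n → F)) = U) → ∀ u ∈ U,
      Matrix.toLin' (g : Matrix (Fin n) (Fin n) F) u ∈ U := by
    intro X g hg U hU u hu
    have h1 := hU _ hg
    rw [hact] at h1
    rw [← h1]
    exact ⟨u, hu, rfl⟩
  -- the polynomial of `ea`
  have hea : ∀ f : Module.End F (Fin n → F), Polynomial.aeval f (1 - pz q (1 : F)) = ea q f := by
    intro f
    rw [map_sub, map_one, aeval_pz, inv_one, one_smul, sub_sub_cancel]
  have hprim : ∀ (X : Set ((Fin n → F) ≃ₗ[F] (Fin n → F))) (f : Module.End F (Fin n → F)) (hf : LinearMap.det f = 1),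
      f ^ q = 1 → act (mk f hf) ∈ X → ∀ A B : Submodule F (Fin n → F), (∀ x ∈ X, Prim x A B) →
      (∀ v ∈ B, ea q f v ∈ A) ∨ ∀ v ∈ B, v - ea q f v ∈ A := by
    intro X f hf hfq hX A B h
    have h1 := prim_idem (1 - pz q (1 : F)) (fun v => by
      rw [hact, toLin'_mk, hea, ea_idem hq hfq]) (h _ hX)
    rwa [hact, toLin'_mk, hea] at h1
  by_cases he1 : orderOf ((Fintype.card F : ℕ) : ZMod q) = 1
  · -- `q ∣ |F| - 1`
    have hq1 : q ∣ Fintype.card F - 1 := by
      rw [orderOf_eq_one_iff] at he1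
      rw [← ZMod.natCast_eq_zero_iff, Nat.cast_sub Fintype.card_pos, he1, Nat.cast_one, sub_self]
    obtain ⟨z, hz⟩ := exists_prime_orderOf_dvd_card (G := Fˣ) q (by rwa [Fintype.card_units])
    have hzq : (z : F) ^ q = 1 := by
      rw [← Units.val_pow_eq_pow_val, ← hz, pow_orderOf_eq_one, Units.val_one]
    have hz1 : (z : F) ≠ 1 := by
      intro h
      have h' : z = 1 := Units.ext (by simpa using h)
      rw [h', orderOf_one] at hz
      exact (Fact.out : q.Prime).one_lt.ne hz
    have hz2 : (z : F) * z ≠ 1 := by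
      intro h
      have h1 : orderOf z ∣ 2 := orderOf_dvd_of_pow_eq_one (Units.ext (by rw [pow_two]; simpa using h))
      rw [hz] at h1
      exact hq2 ((Nat.prime_dvd_prime_iff_eq (Fact.out : q.Prime) Nat.prime_two).1 h1)
    let i₀ : Fin n := ⟨0, by omega⟩
    let i₁ : Fin n := ⟨1, by omega⟩
    have hi : i₀ ≠ i₁ := by
      intro h
      have := congrArg Fin.val h
      simp [i₀, i₁] at this
    let d : Fin n → F := fun i => if i = i₀ then (z : F) else if i = i₁ then (z : F)⁻¹ else 1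
    have hd0 : d i₀ = z := if_pos rfl
    have hd1 : d i₁ = (z : F)⁻¹ := by
      show (if i₁ = i₀ then (z : F) else if i₁ = i₁ then (z : F)⁻¹ else 1) = _
      rw [if_neg hi.symm, if_pos rfl]
    have hd2 : ∀ i, i ≠ i₀ → i ≠ i₁ → d i = 1 := by
      intro i h h'
      show (if i = i₀ then (z : F) else if i = i₁ then (z : F)⁻¹ else 1) = _
      rw [if_neg h, if_neg h']
    have hdet : (Matrix.diagonal d).det = 1 := by
      rw [Matrix.det_diagonal, ← Finset.mul_prod_erase Finset.univ d (Finset.mem_univ i₀),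
        ← Finset.mul_prod_erase (Finset.univ.erase i₀) d (Finset.mem_erase.2 ⟨hi.symm, Finset.mem_univ i₁⟩),
        Finset.prod_eq_one, mul_one, hd0, hd1, mul_inv_cancel₀ z.ne_zero]
      intro i hi'
      rw [Finset.mem_erase, Finset.mem_erase] at hi'
      exact hd2 i hi'.2.1 hi'.1
    let y : Matrix.SpecialLinearGroup (Fin n) F := ⟨Matrix.diagonal d, hdet⟩
    have hyv : ∀ v : Fin n → F, ∀ i, Matrix.toLin' (y : Matrix (Fin n) (Fin n) F) v i = d i * v i := by
      intro v i
      rw [Matrix.toLin'_apply]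
      exact Matrix.mulVec_diagonal d v i
    have hdq : ∀ i, d i ^ q = 1 := by
      intro i
      by_cases h : i = i₀
      · rw [h, hd0, hzq]
      by_cases h' : i = i₁
      · rw [h', hd1, inv_pow, hzq, inv_one]
      · rw [hd2 i h h', one_pow]
    have hyq : y ^ q = 1 := by
      apply Subtype.ext
      rw [Matrix.SpecialLinearGroup.coe_pow]
      show Matrix.diagonal d ^ q = 1
      rw [Matrix.diagonal_pow, ← Matrix.diagonal_one]
      congr 1
      funext i
      exact hdq i
    -- the projections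
    have hkey : ∀ (c : F), c ≠ 0 → c ^ q = 1 → ∀ (i : Fin n), d i = c → (∀ j, j ≠ i → d j ≠ c) → ∀ v j,
        (Polynomial.aeval (Matrix.toLin' (y : Matrix (Fin n) (Fin n) F)) (pz q c) v) j = if j = i then v j else 0 := by
      intro c hc0 hcq i hi1 hi2 v j
      rw [aeval_pz, ea, sub_sub_cancel, LinearMap.smul_apply, LinearMap.sum_apply, Pi.smul_apply, Finset.sum_apply]
      have h1 : ∀ (l : ℕ) (v : Fin n → F), (((c⁻¹ • Matrix.toLin' (y : Matrix (Fin n) (Fin n) F)) ^ l) v) j =
          (c⁻¹ * d j) ^ l * v j := by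
        intro l
        induction l with
        | zero => intro v; simp
        | succ l ih =>
          intro v
          rw [pow_succ, Module.End.mul_apply, ih, LinearMap.smul_apply, Pi.smul_apply, hyv, smul_eq_mul]
          ring
      simp only [h1]
      rw [← Finset.sum_mul]
      by_cases hj : j = i
      · rw [if_pos hj, hj, hi1, inv_mul_cancel₀ hc0]
        simp only [one_pow, Finset.sum_const, Finset.card_range, nsmul_eq_mul, mul_one, smul_eq_mul]
        rw [← mul_assoc, inv_mul_cancel₀ hq, one_mul]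
      · rw [if_neg hj]
        have h2 : c⁻¹ * d j ≠ 1 := by
          intro h
          apply hi2 j hj
          rw [inv_mul_eq_iff_eq_mul₀ hc0, mul_one] at h
          exact h
        have h3 : (∑ l ∈ Finset.range q, (c⁻¹ * d j) ^ l) = 0 := by
          have h4 := mul_geom_sum (c⁻¹ * d j) q
          rw [mul_pow, inv_pow, hcq, hdq, inv_one, one_mul, sub_self] at h4
          exact (mul_eq_zero.1 h4).resolve_left (sub_ne_zero.2 h2)
        rw [h3, zero_mul, smul_zero]
    have hu0 : ∀ j, j ≠ i₀ → d j ≠ (z : F) := by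
      intro j hj h
      by_cases hj1 : j = i₁
      · rw [hj1, hd1] at h
        apply hz2
        rw [← mul_inv_cancel₀ z.ne_zero, h]
      · rw [hd2 j hj hj1] at h
        exact hz1 h.symm
    have hu1 : ∀ j, j ≠ i₁ → d j ≠ (z : F)⁻¹ := by
      intro j hj h
      by_cases hj1 : j = i₀
      · rw [hj1, hd0] at h
        apply hz2
        nth_rewrite 1 [h]
        exact inv_mul_cancel₀ z.ne_zero
      · rw [hd2 j hj1 hj] at h
        exact hz1 (inv_eq_one.1 h.symm)
    have k0 := hkey (z : F) z.ne_zero hzq i₀ hd0 hu0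
    have k1 := hkey (z : F)⁻¹ (inv_ne_zero z.ne_zero) (by rw [inv_pow, hzq, inv_one]) i₁ hd1 hu1
    set e₁ := Polynomial.aeval (Matrix.toLin' (y : Matrix (Fin n) (Fin n) F)) (pz q (z : F)) with he1'
    set e₂ := Polynomial.aeval (Matrix.toLin' (y : Matrix (Fin n) (Fin n) F)) (pz q (z : F)⁻¹) with he2'
    have h11 : ∀ v, e₁ (e₁ v) = e₁ v := fun v => funext fun j => by
      rw [k0, k0]; split_ifs <;> rfl
    have h22 : ∀ v, e₂ (e₂ v) = e₂ v := fun v => funext fun j => by
      rw [k1, k1]; split_ifs <;> rfl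
    have h12 : ∀ v, e₁ (e₂ v) = 0 := fun v => funext fun j => by
      rw [k0, k1]
      split_ifs with h h'
      · exact absurd (h.symm.trans h') hi
      · rfl
      · rfl
    have hrk : ∀ (e : Module.End F (Fin n → F)) (i : Fin n), (∀ v j, e v j = if j = i then v j else 0) →
        finrank F (LinearMap.range e) = 1 := by
      intro e i h
      refine finrank_eq_one (⟨Pi.single i 1, ⟨Pi.single i 1, funext fun j => ?_⟩⟩ : LinearMap.range e) ?_ ?_
      · rw [h]
        by_cases hj : j = i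
        · rw [if_pos hj]
        · rw [if_neg hj, Pi.single_eq_of_ne hj]
      · intro h0
        have h1 := congrArg (fun w : LinearMap.range e => (w : Fin n → F) i) h0
        simp at h1
      · rintro ⟨_, w, rfl⟩
        refine ⟨w i, Subtype.ext (funext fun j => ?_)⟩
        show (w i • (Pi.single i (1 : F) : Fin n → F)) j = e w j
        rw [h, Pi.smul_apply]
        by_cases hj : j = i
        · rw [hj, Pi.single_eq_same, if_pos rfl, smul_eq_mul, mul_one]
        · rw [if_neg hj, Pi.single_eq_of_ne hj, smul_zero]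
    have r0 := hrk e₁ i₀ k0
    have r1 := hrk e₂ i₁ k1
    have hpol : ∀ (p : Polynomial F) (X : Set ((Fin n → F) ≃ₗ[F] (Fin n → F))), act y ∈ X →
        ∀ U : Submodule F (Fin n → F), (∀ x ∈ X, U.map (x : (Fin n → F) →ₗ[F] (Fin n → F)) = U) → ∀ u ∈ U,
        Polynomial.aeval (Matrix.toLin' (y : Matrix (Fin n) (Fin n) F)) p u ∈ U := by
      intro p X hX U hU
      have h1 := hst X y hX U hU
      induction p using Polynomial.induction_on' with
      | add p r hp hr =>
        intro u hu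
        rw [map_add, LinearMap.add_apply]
        exact U.add_mem (hp u hu) (hr u hu)
      | monomial m a =>
        intro u hu
        rw [Polynomial.aeval_monomial, Module.End.mul_apply, Module.algebraMap_end_apply]
        refine U.smul_mem _ ?_
        have h2 : ∀ m : ℕ, ∀ u ∈ U, ((Matrix.toLin' (y : Matrix (Fin n) (Fin n) F)) ^ m) u ∈ U := by
          intro m
          induction m with
          | zero => exact fun u hu => hu
          | succ m ih => intro u hu; rw [pow_succ, Module.End.mul_apply]; exact ih _ (h1 u hu)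
        exact h2 m u hu
    refine qElt_of_pair hyq hyq rfl fun X hX _ h => ?_
    refine no_pf (Adm := Adm) (X := X) h11 h22 h12
      (fun U hU u hu => ⟨hpol _ X hX U hU u hu, hpol _ X hX U hU u hu⟩) (fun A B hAB => ⟨?_, ?_⟩) (by rw [r0]; exact one_ne_zero)
      (by rw [r0, r1]) (by rw [hfr]; exact h)
    · have h1 := prim_idem (pz q (z : F)) (fun v => by
        rw [hact]
        exact h11 v) (hAB _ hX)
      rw [hact] at h1
      exact h1
    · have h1 := prim_idem (pz q (z : F)⁻¹) (fun v => by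
        rw [hact]
        exact h22 v) (hAB _ hX)
      rw [hact] at h1
      exact h1
  · by_cases h2 : 2 * orderOf ((Fintype.card F : ℕ) : ZMod q) ≤ n
    · -- two blocks
      obtain ⟨f₁, f₂, hf1, hf2, hcm, h12, r1, r2⟩ := exists_two (V := Fin n → F) hq (by rw [hfr]; exact h2)
      have d1 := det_one hf1 he1
      have d2 := det_one hf2 he1
      refine qElt_of_pair (x₁ := mk f₁ d1) (x₂ := mk f₂ d2) ?_ ?_ ?_ fun X hX1 hX2 h => ?_
      · apply sl_ext
        rw [toLin'_coe_pow, toLin'_mk, hf1, Matrix.SpecialLinearGroup.coe_one, Matrix.toLin'_one]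
        rfl
      · apply sl_ext
        rw [toLin'_coe_pow, toLin'_mk, hf2, Matrix.SpecialLinearGroup.coe_one, Matrix.toLin'_one]
        rfl
      · apply sl_ext
        rw [toLin'_coe_mul, toLin'_coe_mul, toLin'_mk, toLin'_mk, hcm]
      · refine no_pf (Adm := Adm) (X := X) (ea_idem hq hf1) (ea_idem hq hf2) h12 (fun U hU u hu => ⟨?_, ?_⟩)
          (fun A B hAB => ⟨hprim X f₁ d1 hf1 hX1 A B hAB, hprim X f₂ d2 hf2 hX2 A B hAB⟩)
          (by rw [r1]; exact (ord_pos hq).ne') (by rw [r1, r2]) (by rw [hfr]; exact h)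
        · refine ea_mem (fun w hw => ?_) hu
          have := hst X _ hX1 U hU w hw
          rwa [toLin'_mk] at this
        · refine ea_mem (fun w hw => ?_) hu
          have := hst X _ hX2 U hU w hw
          rwa [toLin'_mk] at this
    · -- one block
      obtain ⟨f, hf, r⟩ := exists_one (V := Fin n → F) hq (by rw [hfr]; exact he)
      have d1 := det_one hf he1
      have hpow : mk f d1 ^ q = 1 := by
        apply sl_ext
        rw [toLin'_coe_pow, toLin'_mk, hf, Matrix.SpecialLinearGroup.coe_one, Matrix.toLin'_one]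
        rfl
      refine qElt_of_pair hpow hpow rfl fun X hX _ h => ?_
      have hx : ∀ U : Submodule F (Fin n → F), (∀ x ∈ X, U.map (x : (Fin n → F) →ₗ[F] (Fin n → F)) = U) →
          ∀ w ∈ U, f w ∈ U := by
        intro U hU w hw
        have := hst X _ hX U hU w hw
        rwa [toLin'_mk] at this
      obtain ⟨c, hc⟩ := pf_digit (Adm := Adm) (X := X) (ea_idem hq hf) (fun U hU u hu => ea_mem (hx U hU) hu)
        (fun A B hAB => hprim X f d1 hf hX A B hAB) (by rw [r]; exact (ord_pos hq).ne')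
        (fun U hU => by rw [r]; exact dvd_map hq hf (hx U hU)) (by rw [hfr]; exact h)
      rw [r] at hc
      refine hbad ⟨c, ?_, hc, by omega⟩
      rw [Nat.one_le_iff_ne_zero]
      rintro rfl
      exact he1 (by rw [hc, pow_zero])

/-- `q ∣ |PSL_n(F)|` implies `e ≤ n` -/
theorem ord_le {q : ℕ} [Fact q.Prime] (hq : (q : F) ≠ 0)
    (hd : q ∣ Nat.card (Matrix.ProjectiveSpecialLinearGroup (Fin n) F)) :
    orderOf ((Fintype.card F : ℕ) : ZMod q) ≤ n := by
  classical
  have h1 : q ∣ Nat.card (Matrix.SpecialLinearGroup (Fin n) F) :=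
    hd.trans (Subgroup.card_quotient_dvd_card (Subgroup.center (Matrix.SpecialLinearGroup (Fin n) F)))
  have h2 : q ∣ Nat.card (GL (Fin n) F) :=
    h1.trans (Subgroup.card_dvd_of_injective Matrix.SpecialLinearGroup.toGL Matrix.SpecialLinearGroup.toGL_injective)
  rw [Matrix.card_GL_field] at h2
  obtain ⟨i, -, hi⟩ := (Prime.dvd_finsetProd_iff (Fact.out : q.Prime).prime _).1 h2
  have h3 : Fintype.card F ^ n - Fintype.card F ^ (i : ℕ) = Fintype.card F ^ (i : ℕ) * (Fintype.card F ^ (n - i) - 1) := by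
    rw [Nat.mul_sub, mul_one, ← pow_add]
    congr 2
    omega
  rw [h3] at hi
  rcases (Fact.out : q.Prime).dvd_mul.1 hi with h4 | h4
  · exfalso
    exact card_ne_zero' hq ((ZMod.natCast_eq_zero_iff _ _).2 ((Fact.out : q.Prime).dvd_of_dvd_pow h4))
  · have h5 := (ZMod.natCast_eq_zero_iff _ _).2 h4
    rw [Nat.cast_sub (Nat.one_le_pow _ _ Fintype.card_pos), sub_eq_zero, Nat.cast_pow, Nat.cast_one] at h5
    exact (Nat.le_of_dvd (by omega) (orderOf_dvd_of_pow_eq_one h5)).trans (by omega)

end psl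

end Cfsg.Agent.H246.CC
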