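import Cfsg.Agent.H246.CC.PslElt
import Cfsg.Agent.H139.CC.FlagA
import Cfsg.Agent.H116.RealRows
import Cfsg.Agent.H439.CC.Fin
import Cfsg.Agent.H850.SQ.ETwo
import Cfsg.Agent.H116.HeckeU.Cmp
import Cfsg.Agent.H549.NW.TypeA
import Cfsg.Agent.H655.CC.BadPsl

/-!
# S4884: the row `PSL_n` in cross characteristic (helper246)
-/

set_option autoImplicit false

namespace Cfsg.Agent.H246.CC

open Matrix Cfsg CoxeterSystem Cfsg.Agent.ChevalleyStructure.CoxeterGeom Cfsg.Agent.Tits.Roots Cfsg.Agent.Tits.Core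
  Cfsg.Agent.Tits.Exchange Cfsg.Agent.Nodes.Reps Cfsg.Agent.Nodes.BNOf Cfsg.Agent.H706.PB Cfsg.Agent.H439.CC
  Cfsg.Agent.H116.RealRows Cfsg.Agent.Nodes.RGDTypeA
open Cfsg.Agent.LieRecognition.BNCox (cA)
open Cfsg.Agent.Nodes.Bruhat (GG)
open Cfsg.Agent.Nodes.RootsA Cfsg.Agent.Nodes.ClsTypeA

universe u

theorem rowReal_psl {F : Type u} [Field F] [Fintype F] {q : ℕ} [Fact q.Prime] (hq2 : q ≠ 2) (hqF : (q : F) ≠ 0)
    (h2F : (2 : F) ≠ 0) (k : ℕ) (hd : q ∣ Nat.card (ProjectiveSpecialLinearGroup (Fin (k + 2)) F)) :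
    RowReal q (ProjectiveSpecialLinearGroup (Fin (k + 2)) F) := by
  by_cases hbad : ∃ c, 1 ≤ c ∧ orderOf ((Fintype.card F : ℕ) : ZMod q) = 2 ^ c ∧
      k + 2 < 2 * orderOf ((Fintype.card F : ℕ) : ZMod q)
  · exact Cfsg.Agent.H655.CC.bad_psl hq2 hqF k hd hbad
  obtain ⟨r, hr⟩ := CharP.exists F
  have hrp : Fact r.Prime := ⟨CharP.char_is_prime F r⟩
  have hr2 : r ≠ 2 := by
    rintro rfl
    exact h2F (by exact_mod_cast CharP.cast_eq_zero F 2)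
  set cs := (cA (k + 1)).toCoxeterSystem with hcs
  have hfin : Finite (cA (k + 1)).Group := finite_W cs (isCartan (k + 1))
  have R := rgd_psl (F := F) (p := r) cs (isCartan (k + 1))
  have hG : GG cs (isCartan (k + 1)) ((Nodes.RGDTypeA.T (Fin (k + 1 + 1)) F).map (pr (k + 1) F))
      (fun x => (Nodes.RGDTypeA.X F x).map (pr (k + 1) F)) = ⊤ := by
    rw [eq_top_iff, ← G1_psl_eq_top (F := F) cs (isCartan (k + 1))]
    exact le_sup_right
  have hgen := H996.Deg.B_sup_NN R hG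
  have hF := Cfsg.Agent.H139.CC.flags_psl cs (isCartan (k + 1)) (F := F) (p := r)
  have hQ := qElt_sl hq2 hqF (n := k + 2) (by omega) (ord_le hqF hd) hbad
    (Matrix.SpecialLinearGroup.toLin' (n := Fin (k + 2)) (R := F)) (fun g => rfl) (fun _ => True)
  have hcmp := Cfsg.Agent.H116.HeckeU.cmp_of_rgd R hgen
  have hW := Cfsg.Agent.H549.NW.wside_A cs
  exact rowReal_of_pieces' Cfsg.Agent.H850.SQ.eTwo hr2 R hgen (real_A cs (isCartan (k + 1))) hcmp (k + 2) (by omega)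
    (fun K _ => JB K ()) hW hq2 (by rw [Fintype.card_unit]; exact (Fact.out : q.Prime).one_lt.ne' ∘ Nat.dvd_one.1) hF hQ

/-- **the row psl** -/
theorem rows_psl (q : ℕ) [Fact q.Prime] (hq2 : q ≠ 2) : RowForR q (fun X _ => ∃ (F : Type) (_ : Field F) (_ : Fintype F)
    (n : ℕ), (q : F) ≠ 0 ∧ (2 : F) ≠ 0 ∧ 2 ≤ n ∧ Nonempty (X ≃* Matrix.ProjectiveSpecialLinearGroup (Fin n) F)) := by
  intro X _ _ _ _ hd h
  obtain ⟨F, _, _, n, hq, h2, hn, ⟨e⟩⟩ := h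
  obtain ⟨k, rfl⟩ : ∃ k, n = k + 2 := ⟨n - 2, by omega⟩
  refine (rowReal_psl hq2 hq h2 k ?_).congr e
  rwa [← Nat.card_congr e.toEquiv]

end Cfsg.Agent.H246.CC
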